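import Cfsg.Agent.Lib.CosetEnum.LyP.G25.Vec
import Cfsg.Agent.Lib.CosetEnum.LyP.G25.Data
import Cfsg.Agent.Lib.CosetEnum.LyP.Pres
import Cfsg.Prelude.Def_ChevG2

/-! The kernel checks for the isomorphism of `P` with G2(5). -/

set_option autoImplicit false
set_option maxRecDepth 100000
set_option Elab.async false

namespace Cfsg.Agent.Lib.CosetEnum.LyP.G25

open Cfsg.Lie

instance factFive : Fact (Nat.Prime 5) := ⟨by norm_num⟩

/-- The coordinates. -/
def eIdx : chevG2.Idx ≃ Fin 14 := finSumFinEquiv

theorem rootC_xMat : ∀ (r : Fin 12) (t : Fin 5),
    toM (rootC.getD (5 * r.val + t.val) []) =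
      (chevG2.xMat (ZMod 5) r (t.val : ZMod 5)).submatrix eIdx.symm eIdx.symm := by
  decide +kernel

theorem root_tab : okTab rootC rootP = true := by decide +kernel

theorem gen_tab : okTab genC genP = true := by decide +kernel

theorem genW_check : ((List.range 10).all fun g =>
    ((genW.getD g []).all fun k => Nat.blt k 60) &&
      decide (colsOf rootP (genW.getD g []) = genC.getD g [])) = true := by decide +kernel

theorem inv_check : ((List.range 5).all fun i =>
    decide (colsOf genP [2 * i, 2 * i + 1] = basis) && decide (colsOf genP [2 * i + 1, 2 * i] = basis)) =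
      true := by decide +kernel

theorem neg_check : ((List.range 60).all fun k =>
    decide (colsOf rootP [k, 5 * (k / 5) + (5 - k % 5) % 5] = basis)) = true := by decide +kernel

theorem pow_check : ((List.range 60).all fun k =>
    decide (colsOf rootP (List.replicate (k % 5) (5 * (k / 5) + 1)) = rootC.getD k [])) = true := by
  decide +kernel

theorem rels_check : (relWords.all fun l =>
    (l.all fun g => Nat.blt g 10) && decide (colsOf genP l = basis)) = true := by decide +kernel

theorem rootW_check : ((List.range 12).all fun r =>
    ((rootW.getD r []).all fun g => Nat.blt g 10) &&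
      decide (colsOf genP (rootW.getD r []) = rootC.getD (5 * r + 1) [])) = true := by decide +kernel

end Cfsg.Agent.Lib.CosetEnum.LyP.G25
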