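import Cfsg.Agent.Lib.CosetEnum.LyP.G25.Checks
import Cfsg.Agent.Lib.CosetEnum.LyP.Order
import Cfsg.Agent.Lib.CosetEnum.LyP.Hom
import Cfsg.Agent.Lib.ChevStructure.Order.CertG2
import Cfsg.Agent.S1055

/-!
`P` is isomorphic to the adjoint Chevalley group of type G2 over GF(5), hence simple.
-/

set_option autoImplicit false

namespace Cfsg.Agent.Lib.CosetEnum.LyP.G25

open Cfsg.Lie Cfsg.Agent.Lib.ExactCover

/-- The group. -/
abbrev G5 := ↥(chevG2.group (ZMod 5))

/-- The matrix on coordinates `Fin 14`. -/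
noncomputable def mat : G5 →* M14 where
  toFun g := ((g : GL chevG2.Idx (ZMod 5)) : Matrix chevG2.Idx chevG2.Idx (ZMod 5)).submatrix
    eIdx.symm eIdx.symm
  map_one' := by simp
  map_mul' g h := by simp [Matrix.submatrix_mul_equiv]

theorem mat_injective : Function.Injective mat := by
  intro g h e
  refine Subtype.ext (Units.ext (Matrix.ext fun a b => ?_))
  have := congrFun (congrFun e (eIdx a)) (eIdx b)
  simpa [mat] using this

/-- The matrix of a number. -/
def xmat (k : ℕ) : Matrix chevG2.Idx chevG2.Idx (ZMod 5) :=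
  (toM (rootC.getD k [])).submatrix eIdx eIdx

theorem xmat_eq {k : ℕ} (hk : k < 60) :
    xmat k = chevG2.xMat (ZMod 5) ⟨k / 5, by show k / 5 < 12; omega⟩ ((k % 5 : ℕ) : ZMod 5) := by
  have h := rootC_xMat ⟨k / 5, by omega⟩ ⟨k % 5, by omega⟩
  rw [show 5 * (k / 5) + k % 5 = k from Nat.div_add_mod k 5] at h
  rw [xmat, h, Matrix.submatrix_submatrix]
  simp only [Equiv.symm_comp_self, Matrix.submatrix_id_id]
  rfl

theorem xmat_inv {k : ℕ} (hk : k < 60) :
    xmat k * xmat (5 * (k / 5) + (5 - k % 5) % 5) = 1 := by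
  have h := neg_check
  simp only [List.all_eq_true, List.mem_range, decide_eq_true_eq] at h
  have hlen : rootC.length = 60 := by decide +kernel
  have e := toM_colsOf root_tab [k, 5 * (k / 5) + (5 - k % 5) % 5] (by simp; omega)
  rw [h k hk, toM_basis] at e
  simp only [List.map_cons, List.map_nil, List.prod_cons, List.prod_nil, mul_one] at e
  rw [xmat, xmat, Matrix.submatrix_mul_equiv, ← e, Matrix.submatrix_one_equiv]

/-- A root element. -/
noncomputable def xel (k : ℕ) : G5 :=
  if hk : k < 60 then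
    ⟨⟨xmat k, xmat (5 * (k / 5) + (5 - k % 5) % 5), xmat_inv hk,
      mul_eq_one_comm.1 (xmat_inv hk)⟩, Subgroup.subset_closure ⟨_, _, xmat_eq hk⟩⟩
  else 1

theorem coe_xel {k : ℕ} (hk : k < 60) :
    ((xel k : GL chevG2.Idx (ZMod 5)) : Matrix chevG2.Idx chevG2.Idx (ZMod 5)) = xmat k := by
  rw [xel, dif_pos hk]

theorem mat_xel {k : ℕ} (hk : k < 60) : mat (xel k) = toM (rootC.getD k []) := by
  ext i j
  simp [mat, xel, hk, xmat]

/-- The images of the letters. -/
noncomputable def gen (g : ℕ) : G5 := ((genW.getD g []).map xel).prod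

theorem mat_gen {g : ℕ} (hg : g < 10) : mat (gen g) = toM (genC.getD g []) := by
  have h := genW_check
  simp only [List.all_eq_true, List.mem_range, Bool.and_eq_true, decide_eq_true_eq, Nat.blt_eq] at h
  obtain ⟨hlt, he⟩ := h g hg
  have hlen : rootC.length = 60 := by decide +kernel
  rw [gen, map_list_prod, List.map_map, ← he, toM_colsOf root_tab _ (fun k hk => hlen ▸ hlt k hk)]
  exact congrArg List.prod (List.map_congr_left fun k hk => mat_xel (hlt k hk))

theorem gen_word {l : List ℕ} (hl : ∀ g ∈ l, g < 10) {C : List (List ℕ)}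
    (h : colsOf genP l = C) : mat (l.map gen).prod = toM C := by
  have hlen : genC.length = 10 := by decide +kernel
  rw [← h, map_list_prod, List.map_map, toM_colsOf gen_tab _ (fun k hk => hlen ▸ hl k hk)]
  exact congrArg List.prod (List.map_congr_left fun k hk => mat_gen (hl k hk))

theorem gen_word_one {l : List ℕ} (hl : ∀ g ∈ l, g < 10) (h : colsOf genP l = basis) :
    (l.map gen).prod = 1 := by
  apply mat_injective
  rw [gen_word hl h, toM_basis, map_one]

theorem gen_sym (g : ℕ) (hg : g < 10) :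
    gen g = cond (stdSym 5 g).2 (gen (2 * (stdSym 5 g).1.val)) (gen (2 * (stdSym 5 g).1.val))⁻¹ := by
  have h := inv_check
  simp only [List.all_eq_true, List.mem_range, Bool.and_eq_true, decide_eq_true_eq] at h
  have key : ∀ i < 5, gen (2 * i + 1) = (gen (2 * i))⁻¹ := fun i hi =>
    eq_inv_of_mul_eq_one_left (by simpa using gen_word_one (by simp; omega) (h i hi).2)
  interval_cases g
  · rfl
  · exact key 0 (by omega)
  · rfl
  · exact key 1 (by omega)
  · rfl
  · exact key 2 (by omega)
  · rfl
  · exact key 3 (by omega)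
  · rfl
  · exact key 4 (by omega)

theorem gen_rels : ∀ r ∈ pres, FreeGroup.lift (fun i : Fin 5 => gen (2 * i.val)) r = 1 := by
  rintro r hr
  obtain ⟨l, hl, rfl⟩ := List.mem_map.1 hr
  have h := rels_check
  simp only [List.all_eq_true, Bool.and_eq_true, decide_eq_true_eq, Nat.blt_eq] at h
  obtain ⟨hlt, he⟩ := h l hl
  rw [FreeGroup.lift_mk, ← gen_word_one hlt he, List.map_map]
  exact congrArg List.prod (List.map_congr_left fun g hg => (gen_sym g (hlt g hg)).symm)

/-- The homomorphism. -/
noncomputable def toG5 : PresentedGroup pres →* G5 := PresentedGroup.toGroup gen_rels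

theorem gen_mem {g : ℕ} (hg : g < 10) : gen g ∈ toG5.range := by
  rw [gen_sym g hg]
  have h : gen (2 * (stdSym 5 g).1.val) ∈ toG5.range :=
    ⟨PresentedGroup.of (stdSym 5 g).1, PresentedGroup.toGroup.of gen_rels⟩
  cases (stdSym 5 g).2
  · exact inv_mem h
  · exact h

theorem xel_one_mem {r : ℕ} (hr : r < 12) : xel (5 * r + 1) ∈ toG5.range := by
  have h := rootW_check
  simp only [List.all_eq_true, List.mem_range, Bool.and_eq_true, decide_eq_true_eq, Nat.blt_eq] at h
  obtain ⟨hlt, he⟩ := h r hr
  have e : xel (5 * r + 1) = ((rootW.getD r []).map gen).prod := by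
    apply mat_injective
    rw [gen_word hlt he, mat_xel (by omega)]
  rw [e]
  refine list_prod_mem fun x hx => ?_
  obtain ⟨g, hg, rfl⟩ := List.mem_map.1 hx
  exact gen_mem (hlt g hg)

theorem xel_mem {k : ℕ} (hk : k < 60) : xel k ∈ toG5.range := by
  have h := pow_check
  simp only [List.all_eq_true, List.mem_range, decide_eq_true_eq] at h
  have hlen : rootC.length = 60 := by decide +kernel
  have e : xel k = xel (5 * (k / 5) + 1) ^ (k % 5) := by
    apply mat_injective
    rw [map_pow, mat_xel hk, mat_xel (by omega), ← h k hk,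
      toM_colsOf root_tab _ (fun g hg => by rw [List.eq_of_mem_replicate hg, hlen]; omega),
      List.map_replicate, List.prod_replicate]
  rw [e]
  exact pow_mem (xel_one_mem (by omega)) _

theorem root_mem (x : GL chevG2.Idx (ZMod 5)) (r : Fin 12) (t : ZMod 5)
    (hx : (x : Matrix chevG2.Idx chevG2.Idx (ZMod 5)) = chevG2.xMat (ZMod 5) r t) :
    x ∈ toG5.range.map (Subgroup.subtype _) := by
  have ht : t.val < 5 := ZMod.val_lt t
  have hk : 5 * r.val + t.val < 60 := by omega
  refine ⟨xel (5 * r.val + t.val), xel_mem hk, Units.ext ?_⟩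
  refine (coe_xel hk).trans ((xmat_eq hk).trans (Eq.trans ?_ hx.symm))
  congr 1
  · exact Fin.ext (show (5 * r.val + t.val) / 5 = r.val by omega)
  · rw [show (5 * r.val + t.val) % 5 = t.val by omega, ZMod.natCast_zmod_val]

theorem toG5_surjective : Function.Surjective toG5 := by
  have key : chevG2.group (ZMod 5) ≤ toG5.range.map (Subgroup.subtype _) := by
    refine (Subgroup.closure_le _).2 ?_
    rintro x ⟨r, t, hx⟩
    exact root_mem x r t hx
  intro g
  obtain ⟨h, ⟨p, hp⟩, hh⟩ := key g.2
  exact ⟨p, hp.trans (Subtype.ext hh)⟩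

theorem card_G5 : Nat.card G5 = 5859000000 := by
  have h := Cfsg.Agent.Lib.ChevStructure.Order.CertG2.card_group (K := ZMod 5) (q := 5) (ZMod.card 5)
  have h1 : (∏ i : Fin chevG2.rank, Nat.gcd (5 - 1)
      (Cfsg.Agent.Lib.ChevStructure.Order.DataTorus.dG2.getD i.val 0)) = 1 := by decide +kernel
  have h2 : 5 ^ (chevG2.nroots / 2) * (([2, 6] : List ℕ).map fun d => 5 ^ d - 1).prod = 5859000000 := by
    decide +kernel
  rw [h1, one_mul, h2] at h
  exact h

/-- `P` is G2(5). -/
noncomputable def iso : PresentedGroup pres ≃* G5 :=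
  MulEquiv.ofBijective toG5 ((Nat.bijective_iff_surjective_and_card _).2
    ⟨toG5_surjective, card_P.1.trans card_G5.symm⟩)

theorem isSimple_P : IsSimpleGroup (PresentedGroup pres) := by
  haveI := (Cfsg.Agent.S1055.result (F := ZMod 5) ⟨2, by decide, by decide⟩).1
  exact iso.isSimpleGroup

/-- A nontrivial map from `P` to the presented Lyons group is injective. -/
theorem toLy_injective_of_ne_one (h : toLy ≠ 1) : Function.Injective toLy := by
  haveI := isSimple_P
  rw [← MonoidHom.ker_eq_bot_iff]
  rcases Subgroup.Normal.eq_bot_or_eq_top (inferInstance : toLy.ker.Normal) with h1 | h1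
  · exact h1
  · exact absurd (MonoidHom.ext fun x => MonoidHom.mem_ker.1 (h1 ▸ Subgroup.mem_top x)) h

end Cfsg.Agent.Lib.CosetEnum.LyP.G25
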