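import Mathlib

/-! Kernel-cheap products of 14 x 14 matrices over GF(5): packed columns. -/

set_option autoImplicit false

namespace Cfsg.Agent.Lib.CosetEnum.LyP.G25

/-- Pack sixteen bits per entry. -/
def encV : List ℕ → ℕ
  | [] => 0
  | x :: l => Nat.add x (Nat.mul 65536 (encV l))

/-- Unpack and reduce modulo five. -/
def decV : ℕ → ℕ → List ℕ
  | 0, _ => []
  | n + 1, S => Nat.mod (Nat.mod S 65536) 5 :: decV n (Nat.div S 65536)

/-- A combination of packed columns. -/
def combP : List ℕ → List ℕ → ℕ
  | c :: cs, x :: xs => Nat.add (Nat.mul x c) (combP cs xs)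
  | _, _ => 0

/-- The same combination of columns. -/
def combC : List (List ℕ) → List ℕ → List ℕ
  | c :: cs, x :: xs => List.zipWith (fun a b => x * a + b) c (combC cs xs)
  | _, _ => List.replicate 14 0

/-- A matrix applied to a vector. -/
def applyV (P : List ℕ) (v : List ℕ) : List ℕ := decV 14 (combP P v)

/-- A word of matrices applied to a vector. -/
def runW (T : List (List ℕ)) : List ℕ → List ℕ → List ℕ
  | [], v => v
  | g :: w, v => applyV (T.getD g []) (runW T w v)

/-- The unit vectors. -/
def basis : List (List ℕ) :=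
  (List.range 14).map fun j => (List.range 14).map fun i => if Nat.beq i j then 1 else 0

/-- The columns of the product along a word. -/
def colsOf (T : List (List ℕ)) (w : List ℕ) : List (List ℕ) := basis.map (runW T w)

/-- A column of fourteen residues. -/
def okCol (v : List ℕ) : Bool := Nat.beq v.length 14 && v.all (Nat.blt · 5)

/-- A table of matrices with its packed form. -/
def okTab (C : List (List (List ℕ))) (T : List (List ℕ)) : Bool :=
  Nat.beq T.length C.length && (C.zip T).all fun p =>
    Nat.beq p.1.length 14 && p.1.all okCol && decide (p.2 = p.1.map encV)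

theorem okCol_iff {v : List ℕ} : okCol v = true ↔ v.length = 14 ∧ ∀ x ∈ v, x < 5 := by
  simp [okCol, List.all_eq_true]

theorem encV_combine (x : ℕ) : ∀ {c d : List ℕ}, c.length = d.length →
    encV (List.zipWith (fun a b => x * a + b) c d) = x * encV c + encV d
  | [], [], _ => by simp [encV]
  | a :: c, b :: d, h => by
    simp only [List.zipWith_cons_cons, encV, Nat.add_eq, Nat.mul_eq,
      encV_combine x (List.length_cons ▸ List.length_cons ▸ h |> Nat.succ.inj)]
    ring
  | [], _ :: _, h => by simp at h
  | _ :: _, [], h => by simp at h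

theorem encV_zero : ∀ n, encV (List.replicate n 0) = 0
  | 0 => rfl
  | n + 1 => by simp [List.replicate_succ, encV, encV_zero n]

theorem combC_spec : ∀ {C : List (List ℕ)} (v : List ℕ), (∀ c ∈ C, okCol c = true) → (∀ x ∈ v, x < 5) →
    (combC C v).length = 14 ∧ (∀ x ∈ combC C v, x ≤ 16 * C.length) ∧
      encV (combC C v) = combP (C.map encV) v
  | [], v, _, _ => by
    refine ⟨by simp [combC], by simp [combC], ?_⟩
    show encV (List.replicate 14 0) = combP _ v
    rw [encV_zero]; simp [combP]
  | c :: C, [], _, _ => by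
    refine ⟨by simp [combC], by simp [combC], ?_⟩
    show encV (List.replicate 14 0) = combP _ []
    rw [encV_zero]; simp [combP]
  | c :: C, x :: v, hC, hv => by
    obtain ⟨h1, h2, h3⟩ := combC_spec v (fun d hd => hC d (List.mem_cons_of_mem _ hd))
      (fun y hy => hv y (List.mem_cons_of_mem _ hy))
    obtain ⟨hc1, hc2⟩ := okCol_iff.1 (hC c List.mem_cons_self)
    refine ⟨by simp [combC, List.length_zipWith, hc1, h1], ?_, ?_⟩
    · intro y hy
      simp only [combC, List.mem_iff_getElem, List.length_zipWith, List.getElem_zipWith] at hy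
      obtain ⟨i, hi, rfl⟩ := hy
      have e1 := hc2 ((c)[i]'(by omega)) (List.getElem_mem _)
      have e2 := h2 ((combC C v)[i]'(by omega)) (List.getElem_mem _)
      have e3 := hv x List.mem_cons_self
      have : x * (c)[i]'(by omega) ≤ 4 * 4 := Nat.mul_le_mul (by omega) (by omega)
      simp only [List.length_cons]
      omega
    · show encV (List.zipWith (fun a b => x * a + b) c (combC C v)) = Nat.add (Nat.mul x (encV c)) (combP _ v)
      rw [encV_combine x (hc1.trans h1.symm), h3]
      rfl

theorem decV_encV : ∀ {l : List ℕ}, (∀ x ∈ l, x < 65536) → decV l.length (encV l) = l.map (· % 5)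
  | [], _ => rfl
  | x :: l, h => by
    have hx := h x List.mem_cons_self
    simp only [List.length_cons, decV, encV, Nat.add_eq, Nat.mul_eq, List.map_cons]
    rw [show Nat.mod (Nat.mod (x + 65536 * encV l) 65536) 5 = (x + 65536 * encV l) % 65536 % 5 from rfl,
      show Nat.div (x + 65536 * encV l) 65536 = (x + 65536 * encV l) / 65536 from rfl,
      Nat.add_mul_mod_self_left, Nat.mod_eq_of_lt hx, Nat.add_mul_div_left _ _ (by norm_num),
      Nat.div_eq_of_lt hx, Nat.zero_add, decV_encV fun y hy => h y (List.mem_cons_of_mem _ hy)]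

/-- The matrices. -/
abbrev M14 := Matrix (Fin 14) (Fin 14) (ZMod 5)

/-- The matrix with given columns. -/
def toM (C : List (List ℕ)) : M14 := Matrix.of fun i j => ((C.getD j.val []).getD i.val 0 : ZMod 5)

/-- The vector with given entries. -/
def toV (v : List ℕ) : Fin 14 → ZMod 5 := fun i => (v.getD i.val 0 : ZMod 5)

theorem combC_getD : ∀ {C : List (List ℕ)} {v : List ℕ}, C.length = v.length →
    (∀ c ∈ C, okCol c = true) → (∀ x ∈ v, x < 5) → ∀ i < 14,
    (combC C v).getD i 0 = ∑ j ∈ Finset.range C.length, v.getD j 0 * (C.getD j []).getD i 0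
  | [], [], _, _, _, i, hi => by
    show (List.replicate 14 0).getD i 0 = _
    rw [List.getD_eq_getElem _ _ (by simpa using hi)]
    simp only [List.getElem_replicate]
    simp
  | c :: C, x :: v, h, hC, hv, i, hi => by
    have hC' : ∀ d ∈ C, okCol d = true := fun d hd => hC d (List.mem_cons_of_mem _ hd)
    have hv' : ∀ y ∈ v, y < 5 := fun y hy => hv y (List.mem_cons_of_mem _ hy)
    have ih := combC_getD (Nat.succ.inj h) hC' hv' i hi
    have hl := (combC_spec v hC' hv').1
    have hc := (okCol_iff.1 (hC c List.mem_cons_self)).1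
    rw [List.length_cons, Finset.sum_range_succ']
    simp only [List.getD_cons_succ, List.getD_cons_zero, ← ih]
    rw [combC, List.getD_eq_getElem _ _ (by simp [List.length_zipWith, hc, hl, hi]),
      List.getElem_zipWith, List.getD_eq_getElem _ _ (by omega), List.getD_eq_getElem _ _ (by omega)]
    ring
  | [], _ :: _, h, _, _, _, _ => by simp at h
  | _ :: _, [], h, _, _, _, _ => by simp at h

theorem applyV_spec {C : List (List ℕ)} (hl : C.length = 14) (hC : ∀ c ∈ C, okCol c = true)
    {v : List ℕ} (hv : okCol v = true) :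
    okCol (applyV (C.map encV) v) = true ∧
      toV (applyV (C.map encV) v) = Matrix.mulVec (toM C) (toV v) := by
  obtain ⟨hv1, hv2⟩ := okCol_iff.1 hv
  obtain ⟨h1, h2, h3⟩ := combC_spec v hC hv2
  have he : applyV (C.map encV) v = (combC C v).map (· % 5) := by
    rw [applyV, ← h3, ← decV_encV (fun x hx => by have := h2 x hx; omega), h1]
  rw [he]
  refine ⟨okCol_iff.2 ⟨by simp [h1], fun x hx => ?_⟩, ?_⟩
  · obtain ⟨y, -, rfl⟩ := List.mem_map.1 hx
    exact Nat.mod_lt _ (by norm_num)
  · funext i
    have hsum := combC_getD (hl.trans hv1.symm) hC hv2 i.val i.isLt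
    simp only [toV, toM, Matrix.mulVec, dotProduct, Matrix.of_apply]
    rw [List.getD_eq_getElem _ _ (by simp [h1]), List.getElem_map, ← List.getD_eq_getElem _ 0,
      ZMod.natCast_mod, hsum, hl, Finset.sum_range, Nat.cast_sum]
    exact Finset.sum_congr rfl fun j _ => by push_cast; ring

theorem okTab_spec {C : List (List (List ℕ))} {T : List (List ℕ)} (h : okTab C T = true) {g : ℕ}
    (hg : g < C.length) :
    (C.getD g []).length = 14 ∧ (∀ c ∈ C.getD g [], okCol c = true) ∧
      T.getD g [] = (C.getD g []).map encV := by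
  simp only [okTab, Bool.and_eq_true, Nat.beq_eq, List.all_eq_true, decide_eq_true_eq] at h
  obtain ⟨hT, hall⟩ := h
  have hm := hall (C[g], T[g]'(by omega)) (List.mem_iff_getElem.2 ⟨g, by simp; omega, by simp⟩)
  rw [List.getD_eq_getElem _ _ hg, List.getD_eq_getElem _ _ (by omega)]
  exact ⟨hm.1.1, hm.1.2, hm.2⟩

/-- Running a word is the product of the matrices. -/
theorem runW_spec {C : List (List (List ℕ))} {T : List (List ℕ)} (h : okTab C T = true) :
    ∀ (w : List ℕ), (∀ g ∈ w, g < C.length) → ∀ (v : List ℕ), okCol v = true →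
      okCol (runW T w v) = true ∧
        toV (runW T w v) = Matrix.mulVec ((w.map fun g => toM (C.getD g [])).prod) (toV v)
  | [], _, v, hv => by simp [runW, hv]
  | g :: w, hw, v, hv => by
    obtain ⟨i1, i2⟩ := runW_spec h w (fun x hx => hw x (List.mem_cons_of_mem _ hx)) v hv
    obtain ⟨h1, h2, h3⟩ := okTab_spec h (hw g List.mem_cons_self)
    obtain ⟨j1, j2⟩ := applyV_spec h1 h2 i1
    rw [runW, h3]
    exact ⟨j1, by rw [j2, i2, Matrix.mulVec_mulVec, List.map_cons, List.prod_cons]⟩

theorem basis_spec : ∀ j : Fin 14, okCol (basis.getD j.val []) = true ∧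
    toV (basis.getD j.val []) = Pi.single j 1 := by
  decide +kernel

/-- The columns computed from packed tables are those of the product. -/
theorem toM_colsOf {C : List (List (List ℕ))} {T : List (List ℕ)} (h : okTab C T = true) (w : List ℕ)
    (hw : ∀ g ∈ w, g < C.length) :
    toM (colsOf T w) = (w.map fun g => toM (C.getD g [])).prod := by
  ext i j
  have hj := (runW_spec h w hw _ (basis_spec j).1).2
  rw [(basis_spec j).2, Matrix.mulVec_single_one] at hj
  have hb : j.val < basis.length := by
    have : basis.length = 14 := by decide +kernel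
    omega
  have hcol : (colsOf T w).getD j.val [] = runW T w (basis.getD j.val []) := by
    rw [List.getD_eq_getElem _ _ (by simpa [colsOf] using hb), List.getD_eq_getElem _ _ hb]
    simp [colsOf]
  calc toM (colsOf T w) i j = toV ((colsOf T w).getD j.val []) i := rfl
    _ = _ := by rw [hcol]; exact congrFun hj i

theorem toM_basis : toM basis = 1 := by decide +kernel

end Cfsg.Agent.Lib.CosetEnum.LyP.G25
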